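import Groth.Agent.H14.GenFam.Chart
import Groth.Agent.Lib.QuotSt.DiagAffine
import Groth.Agent.Lib.QuotSt.ActionSquare

/-!
The chart of a quotient category given by the space acted upon and the action groupoid.
-/

set_option autoImplicit false
set_option backward.isDefEq.respectTransparency false
set_option backward.isDefEq.respectTransparency.types false
set_option linter.style.haveILetI false

universe u

open CategoryTheory CategoryTheory.Limits MonoidalCategory CartesianMonoidalCategory MonObj AlgebraicGeometry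
open StMod (sch bmap)
open AlgSt (QuotObj QuotSt leftMul)
open Groth.Agent.Lib Groth.Agent.Lib.QuotSt
open Groth.Agent.H14.GenFam

namespace Groth.Agent.H14.QuotGood

variable {S : Scheme.{u}} {K : Precoverage Scheme.{u}} [K.HasIsos] [K.IsStableUnderBaseChange]
  {G X : Over S} [GrpObj G] (aX : AlgGrp.Action G X)

variable (K) in
/-- The object given by the space acted upon. -/
noncomputable abbrev x₀ : QuotObj K G aX := trivObj K aX (𝟙 X)

variable (K) in
/-- The object given by the action groupoid. -/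
noncomputable abbrev w₀ : QuotObj K G aX := trivObj K aX aX.act

variable (K) in
/-- The morphism to the chart given by a group element and a point. -/
noncomputable def toX {T : Over S} {y : T ⟶ X} (g : T ⟶ G) (z : T ⟶ X) (h : lift g z ≫ aX.act = y) :
    trivObj K aX y ⟶ x₀ K aX :=
  ofPoint y z (lift g z) (lift_snd _ _) (by
    change lift g z ≫ (G ◁ 𝟙 X) ≫ aX.act = y
    rw [lift_whiskerLeft_assoc, Category.comp_id, h])

theorem point_toX {T : Over S} {y : T ⟶ X} (g : T ⟶ G) (z : T ⟶ X) (h : lift g z ≫ aX.act = y) :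
    point (toX K aX g z h) = lift g z :=
  point_ofPoint _ _ _ _ _

variable (K) in
/-- The first projection of the action groupoid. -/
noncomputable def pW : w₀ K aX ⟶ x₀ K aX :=
  toX K aX (fst G X) (snd G X) (by rw [lift_fst_snd, Category.id_comp])

variable (K) in
/-- The second projection of the action groupoid. -/
noncomputable def qW : w₀ K aX ⟶ x₀ K aX := toX K aX 1 aX.act (Act.one_smul aX _)

theorem eq_toX {T : Over S} {y : T ⟶ X} (a : trivObj K aX y ⟶ x₀ K aX) :
    ∃ h : lift (point a ≫ fst G X) a.base ≫ aX.act = y, a = toX K aX (point a ≫ fst G X) a.base h := by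
  have hp : point a = lift (point a ≫ fst G X) a.base := by
    apply CartesianMonoidalCategory.hom_ext
    · exact (lift_fst _ _).symm
    · rw [lift_snd]; exact point_π a
  have h : lift (point a ≫ fst G X) a.base ≫ aX.act = y := by
    rw [← hp]
    refine Eq.trans ?_ (point_φ a)
    change _ = point a ≫ (G ◁ 𝟙 X) ≫ aX.act
    refine congrArg (point a ≫ ·) ?_
    exact ((congrArg (· ≫ aX.act) (MonoidalCategory.whiskerLeft_id G X)).trans (Category.id_comp _)).symm
  refine ⟨h, hom_ext_of_point ?_⟩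
  rw [point_toX, ← hp]

theorem comp_point {T V : Over S} {y : T ⟶ X} {z : V ⟶ X} {A : QuotObj K G aX}
    (c : trivObj K aX y ⟶ trivObj K aX z) (m : trivObj K aX z ⟶ A) {g : T ⟶ G} {t : T ⟶ V}
    (hc : point c = lift g t) : point (c ≫ m) = lift g (t ≫ point m) ≫ A.act.act := by
  change lift 1 (𝟙 T) ≫ c.top ≫ m.top = _
  rw [← Category.assoc, show lift 1 (𝟙 T) ≫ c.top = lift g t from hc, lift_comp_top]

/-- Two morphisms to the chart factor through the action groupoid. -/
theorem exists_pair {T : Over S} {y : T ⟶ X} {ga gb : T ⟶ G} {za zb : T ⟶ X}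
    (ha : lift ga za ≫ aX.act = y) (hb : lift gb zb ≫ aX.act = y) :
    ∃ c : trivObj K aX y ⟶ w₀ K aX, c.base = lift (gb⁻¹ * ga) za ∧
      c ≫ pW K aX = toX K aX ga za ha ∧ c ≫ qW K aX = toX K aX gb zb hb := by
  have ht : lift (gb⁻¹ * ga) za ≫ aX.act = zb := by
    rw [Act.mul_smul aX, ha, ← hb, ← Act.mul_smul aX, inv_mul_cancel, Act.one_smul]
  let c : trivObj K aX y ⟶ w₀ K aX :=
    ofPoint y (lift (gb⁻¹ * ga) za) (lift gb (lift (gb⁻¹ * ga) za)) (lift_snd _ _) (by
      change lift gb (lift (gb⁻¹ * ga) za) ≫ (G ◁ aX.act) ≫ aX.act = y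
      rw [lift_whiskerLeft_assoc, ht, hb])
  have hc : point c = lift gb (lift (gb⁻¹ * ga) za) := point_ofPoint _ _ _ _ _
  refine ⟨c, rfl, hom_ext_of_point ?_, hom_ext_of_point ?_⟩
  · rw [comp_point aX c _ hc, pW, point_toX, point_toX, lift_fst_snd, Category.comp_id]
    change lift gb (lift (gb⁻¹ * ga) za) ≫ (leftMul G X).act = _
    rw [lift_leftMul, mul_inv_cancel_left]
  · rw [comp_point aX c _ hc, qW, point_toX, point_toX, comp_lift, MonObj.comp_one, ht]
    change lift gb (lift 1 zb) ≫ (leftMul G X).act = _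
    rw [lift_leftMul, _root_.mul_one]

/-- The trivialisation of an object given by a morphism to the chart. -/
theorem exists_triv_of_map {o : QuotObj K G aX} (a : o ⟶ x₀ K aX) :
    ∃ (y : o.base ⟶ X) (k : trivObj K aX y ⟶ o), k.base = 𝟙 o.base := by
  let s : o.base ⟶ o.P := a.cart.lift (lift 1 a.base) (𝟙 _) (by
    change lift 1 a.base ≫ snd G X = _
    rw [lift_snd, Category.id_comp])
  exact ⟨s ≫ o.φ, ofPoint _ (𝟙 _) s (a.cart.lift_snd _ _ _) rfl, rfl⟩

instance isAffine_tensor [IsAffineHom G.hom] [IsAffine X.left] : IsAffine (G ⊗ X).left := by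
  have : IsAffineHom (snd G X).left := by
    show IsAffineHom (pullback.snd G.hom X.hom)
    infer_instance
  exact isAffine_of_isAffineHom (snd G X).left

/-- The chart of the quotient category. -/
noncomputable def quotChart (hK : K ≤ Scheme.fpqcPrecoverage) [IsAffineHom G.hom] [Flat G.hom] [IsAffine X.left] :
    Chart (QuotSt K G aX) where
  x := x₀ K aX
  w := w₀ K aX
  affx := show IsAffine X.left from inferInstance
  affw := show IsAffine (G ⊗ X).left from inferInstance
  p := pW K aX
  q := qW K aX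
  cover (o : QuotObj K G aX) (ho : IsAffine o.base.left) := by
    have : IsAffineHom o.π.left := QuotSt.property_π hK o (inferInstance : IsAffineHom G.hom)
    have hP : IsAffine o.P.left := isAffine_of_isAffineHom o.π.left
    have hf : Flat o.π.left := QuotSt.property_π hK o (inferInstance : Flat G.hom)
    have hs : Surjective o.π.left := surjective_π hK o
    let C : Cover (𝒳 := QuotSt K G aX) o (Fin 1) :=
      { E := fun _ => trivObj K aX o.φ
        aff := fun _ => hP
        e := fun _ => ofPoint o.φ o.π (𝟙 _) (Category.id_comp _) (Category.id_comp _)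
        flat := fun _ => hf
        surj := fun z => ⟨0, hs.surj z⟩ }
    exact ⟨1, C, fun _ => ⟨toX K aX 1 o.φ (Act.one_smul aX _)⟩⟩
  overlap (o : QuotObj K G aX) (ho : IsAffine o.base.left) a b := by
    obtain ⟨y, k, hk⟩ := exists_triv_of_map aX a
    obtain ⟨ha, ea⟩ := eq_toX aX (k ≫ a)
    obtain ⟨hb, eb⟩ := eq_toX aX (k ≫ b)
    obtain ⟨c, -, hcp, hcq⟩ := exists_pair aX ha hb
    let C : Cover (𝒳 := QuotSt K G aX) o PUnit.{u + 1} :=
      { E := fun _ => trivObj K aX y
        aff := fun _ => ho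
        e := fun _ => k
        flat := fun _ => by
          show Flat k.base.left
          rw [hk]
          exact (inferInstance : Flat (𝟙 o.base.left))
        surj := fun z => ⟨⟨⟩, z, by show k.base.left z = z; rw [hk]; rfl⟩ }
    exact ⟨PUnit, inferInstance, C, fun _ => ⟨c, hcp.trans ea.symm, hcq.trans eb.symm⟩⟩

/-- A morphism from a trivial object with the source point. -/
theorem exists_triple :
    ∃ (w2 : QuotObj K G aX) (e d₁ d : w2 ⟶ w₀ K aX) (hb : w2.base = G ⊗ (G ⊗ X)),
      e.base = eqToHom hb ≫ snd G (G ⊗ X) ∧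
      d₁.base = eqToHom hb ≫ (G ◁ snd G X) ∧
      d.base = eqToHom hb ≫ lift (fst G (G ⊗ X) * (snd G (G ⊗ X) ≫ fst G X)⁻¹) (snd G (G ⊗ X) ≫ aX.act) ∧
      e ≫ pW K aX = d₁ ≫ pW K aX ∧ d ≫ pW K aX = e ≫ qW K aX ∧ d ≫ qW K aX = d₁ ≫ qW K aX := by
  let g := fst G (G ⊗ X)
  let h := snd G (G ⊗ X) ≫ fst G X
  let x := snd G (G ⊗ X) ≫ snd G X
  let hx := snd G (G ⊗ X) ≫ aX.act
  let y := lift g x ≫ aX.act
  have hhx : lift h x ≫ aX.act = hx := by
    show lift (snd G (G ⊗ X) ≫ fst G X) (snd G (G ⊗ X) ≫ snd G X) ≫ _ = _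
    rw [← comp_lift, lift_fst_snd, Category.comp_id]
  have h1 : lift (g * h⁻¹) hx ≫ aX.act = y := by
    rw [← hhx, ← Act.mul_smul aX, inv_mul_cancel_right]
  obtain ⟨e, eb, ep, eq⟩ := exists_pair (K := K) aX (za := x) (zb := hx) (rfl : lift g x ≫ aX.act = y) h1
  obtain ⟨d₁, d₁b, d₁p, d₁q⟩ := exists_pair (K := K) aX (za := x) (rfl : lift g x ≫ aX.act = y) (Act.one_smul aX y)
  obtain ⟨d, db, dp, dq⟩ := exists_pair (K := K) aX (za := hx) h1 (Act.one_smul aX y)
  refine ⟨trivObj K aX y, e, d₁, d, rfl, ?_, ?_, ?_, ep.trans d₁p.symm, dp.trans eq.symm, dq.trans d₁q.symm⟩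
  · rw [eb, eqToHom_refl]
    refine Eq.trans ?_ (Category.id_comp _).symm
    rw [mul_inv_rev, inv_inv, inv_mul_cancel_right, ← comp_lift, lift_fst_snd, Category.comp_id]
  · rw [d₁b, eqToHom_refl]
    refine Eq.trans ?_ (Category.id_comp _).symm
    rw [inv_one, _root_.one_mul]
    apply CartesianMonoidalCategory.hom_ext
    · rw [lift_fst, whiskerLeft_fst]
    · rw [lift_snd, whiskerLeft_snd]
  · rw [db, eqToHom_refl]
    refine Eq.trans ?_ (Category.id_comp _).symm
    rw [inv_one, _root_.one_mul]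

end Groth.Agent.H14.QuotGood
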