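import Groth.Agent.H14.CohDesc.Core

/-!
From invariant values at a chart to sections of direct images over flat affine objects of the base.
-/

set_option autoImplicit false
set_option backward.isDefEq.respectTransparency false
set_option backward.isDefEq.respectTransparency.types false
set_option linter.style.haveILetI false

universe u

open CategoryTheory CategoryTheory.Limits AlgebraicGeometry Opposite TensorProduct
open StMod (sch bmap fibCat fibFst baseOver)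
open Groth.Agent.Lib.AlgStack
open Groth.Agent.H14.ModDesc
open Groth.Agent.H14.AffPush
open Groth.Agent.H14.GenFam
open Groth.Agent.H14.CohDesc
open FibCat (IsFibGrpd)

namespace Groth.Agent.H14.QuotGood

variable {S : Scheme.{u}} {𝒳 𝒴 : AlgSt.Cat S} {ρ : 𝒳 ⥤ᵇ 𝒴} {η η₀ : 𝒴.obj}

/-- An invariant value at a chart is the value of a section. -/
theorem exists_relSect_of_inv (hX : IsFibGrpd 𝒳.p) (F : StMod.QCoh 𝒳) (C : Chart (fibCat ρ η₀))
    (v : Γ(F.obj.obj C.x.left, ⊤)) (hv : F.obj.mapTop C.p.left v = F.obj.mapTop C.q.left v) :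
    ∃ s : F.obj.RelSect ρ η₀, s.1 C.x.left C.x.hom = v := by
  have hfib := isFibGrpd_fibCat hX ρ η₀
  let F' : StMod.QCoh (fibCat ρ η₀) := (StMod.comapQ (fibFst ρ η₀)).obj F
  obtain ⟨ψ, hψ⟩ := Chart.exists_hom hfib C (StMod.OQ (fibCat ρ η₀)) F' (n := 1) (fun _ => oneO _ C.x)
    (Submodule.eq_top_iff'.2 fun z => by
      rw [← smul_oneO z]
      exact Submodule.smul_mem _ _ (Submodule.subset_span ⟨0, rfl⟩))
    (fun _ => v)
    (fun c hc => by
      rw [Fin.sum_univ_one] at hc ⊢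
      have hc0 : c 0 = 0 := (mul_one (c 0)).symm.trans hc
      rw [hc0, zero_smul])
    (fun _ _ => 1)
    (fun _ => by
      rw [Fin.sum_univ_one, one_smul]
      exact (oneO_mapTop C.p).trans (oneO_mapTop C.q).symm)
    (fun _ => by
      rw [Fin.sum_univ_one, one_smul]
      exact (mapTop_fib (F := F.obj) C.p v).trans (hv.trans (mapTop_fib (F := F.obj) C.q v).symm))
  let σ : ∀ o : (fibCat ρ η₀).obj, Γ(F.obj.obj o.left, ⊤) := fun o => (ψ.app o).app ⊤ (oneO _ o)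
  have hσ : ∀ {o' o : (fibCat ρ η₀).obj} (f : o' ⟶ o), F.obj.mapTop f.left (σ o) = σ o' := fun {o' o} f => by
    refine (mapTop_fib (F := F.obj) f (σ o)).symm.trans ?_
    show F'.obj.mapTop f ((ψ.app o).app ⊤ (oneO _ o)) = (ψ.app o').app ⊤ (oneO _ o')
    rw [StMod.Mod.mapTop_app, oneO_mapTop]
  exact ⟨⟨fun ξ α => σ (CostructuredArrow.mk α), fun ξ' ξ φ α => hσ
    (o' := CostructuredArrow.mk (ρ.map φ ≫ α)) (o := CostructuredArrow.mk α) (CostructuredArrow.homMk φ rfl)⟩, hψ 0⟩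

/-- A pullback of a chart to an object over the base of the chart. -/
structure ResPt (hX : IsFibGrpd 𝒳.p) (C : Chart (fibCat ρ η₀)) (c : η ⟶ η₀) where
  /-- the object -/
  pt : (fibCat ρ η).obj
  /-- the comparison -/
  iso : (resFun ρ c).obj pt ≅
    up (π := baseFun ρ η₀) (g := 𝒴.p.map c) (isFibGrpd_fibCat hX ρ η₀) C.x

variable {hX : IsFibGrpd 𝒳.p} {C : Chart (fibCat ρ η₀)} {c : η ⟶ η₀}

theorem exists_resPt (hY : IsFibGrpd 𝒴.p) : Nonempty (ResPt hX C c) :=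
  let ⟨o, i, _⟩ := (isEqv_resFun hX hY ρ c).obj (up (π := baseFun ρ η₀) (g := 𝒴.p.map c) (isFibGrpd_fibCat hX ρ η₀) C.x)
  ⟨⟨o, i⟩⟩

variable (Q : ResPt hX C c)

/-- The projection to the chart. -/
noncomputable def ResPt.proj : (CostructuredArrow.mk (Q.pt.hom ≫ c) : (fibCat ρ η₀).obj) ⟶ C.x :=
  Q.iso.hom.hom.left ≫ eps (π := baseFun ρ η₀) (g := 𝒴.p.map c) (isFibGrpd_fibCat hX ρ η₀) C.x

theorem ResPt.isAffine [IsAffine (sch 𝒴 η)] [IsAffine (sch 𝒴 η₀)] : IsAffine (sch 𝒳 Q.pt.left) := by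
  haveI : IsAffine (𝒴.p.obj η₀).left := ‹IsAffine (sch 𝒴 η₀)›
  haveI : IsAffine (𝒴.p.obj η).left := ‹IsAffine (sch 𝒴 η)›
  haveI : IsAffine (sch (cat (baseFun ρ η₀) (𝒴.p.map c))
      (up (π := baseFun ρ η₀) (g := 𝒴.p.map c) (isFibGrpd_fibCat hX ρ η₀) C.x)) :=
    isAffine_up (isFibGrpd_fibCat hX ρ η₀) C.x
  exact IsAffine.of_isIso (bmap (cat (baseFun ρ η₀) (𝒴.p.map c)) Q.iso.hom)

/-- Sections over the pulled back base agreeing at the pulled back chart agree. -/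
theorem ResPt.relSect_ext (hY : IsFibGrpd 𝒴.p) (G : StMod.QCoh 𝒳) {s t : G.obj.RelSect ρ η}
    (h : s.1 Q.pt.left Q.pt.hom = t.1 Q.pt.left Q.pt.hom) : s = t := by
  have hfib := isFibGrpd_fibCat hX ρ η₀
  have := (isEqv_resFun hX hY ρ c).full
  refine StMod.Mod.RelSect.ext _ _ _ fun ξ α => sect_ext hX G fun ξ' φ hξ' => ?_
  rw [s.2 φ α, t.2 φ α]
  obtain ⟨n, D, hD⟩ := C.cover (CostructuredArrow.mk ((ρ.map φ ≫ α) ≫ c)) hξ'
  let D₀ : Cover ξ' (Fin n) := ⟨fun j => (D.E j).left, D.aff, fun j => (D.e j).left, D.flat, D.surj⟩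
  haveI : IsAffine (sch 𝒳 ξ') := hξ'
  refine D₀.eq_of_mapTop G fun j => ?_
  show G.obj.mapTop (D.e j).left _ = G.obj.mapTop (D.e j).left _
  refine (s.2 (D.e j).left (ρ.map φ ≫ α)).trans (Eq.trans ?_ (t.2 (D.e j).left (ρ.map φ ≫ α)).symm)
  let x : (fibCat ρ η).obj := CostructuredArrow.mk (ρ.map (D.e j).left ≫ ρ.map φ ≫ α)
  have hw : (x.hom ≫ c) = (D.E j).hom := by
    show (ρ.map (D.e j).left ≫ ρ.map φ ≫ α) ≫ c = _
    exact (Category.assoc _ _ _).trans (CostructuredArrow.w (D.e j))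
  let a : ((resFun ρ c).obj x).obj.left ⟶ C.x :=
    (CostructuredArrow.homMk (𝟙 x.left) (by
      show ρ.map (𝟙 _) ≫ (D.E j).hom = x.hom ≫ c
      rw [ρ.toFunctor.map_id, Category.id_comp, hw]) : ((resFun ρ c).obj x).obj.left ⟶ D.E j) ≫ (hD j).some
  obtain ⟨k, -⟩ := (resFun ρ c).toFunctor.map_surjective
    (upLift (π := baseFun ρ η₀) (g := 𝒴.p.map c) hfib a ≫ Q.iso.inv)
  exact (relSect_mapTop s k).symm.trans ((congrArg (G.obj.mapTop k.left) h).trans (relSect_mapTop t k))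

variable [IsAffine (sch 𝒴 η)] [IsAffine (sch 𝒴 η₀)] [Flat (bmap 𝒴 c)]

set_option maxHeartbeats 1600000 in
/-- The value of a section at the pulled back chart lies in any submodule containing the pulled back invariant values. -/
theorem ResPt.value_mem (hY : IsFibGrpd 𝒴.p) (G : StMod.QCoh 𝒳) (t : G.obj.RelSect ρ η)
    (P : Γ(G.obj.obj Q.pt.left, ⊤) → Prop) (hP0 : P 0) (hPadd : ∀ a b, P a → P b → P (a + b))
    (hPsmul : ∀ (b : Γ(sch 𝒴 η, ⊤)) a, P a → P ((baseOver ρ Q.pt.left Q.pt.hom).left.appTop b • a))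
    (hPgen : ∀ v : Γ(G.obj.obj C.x.left, ⊤), G.obj.mapTop C.p.left v = G.obj.mapTop C.q.left v →
      P (G.obj.mapTop Q.proj.left v)) :
    P (t.1 Q.pt.left Q.pt.hom) := by
  have hfib := isFibGrpd_fibCat hX ρ η₀
  haveI : IsAffine (𝒴.p.obj η₀).left := ‹IsAffine (sch 𝒴 η₀)›
  haveI : IsAffine (𝒴.p.obj η).left := ‹IsAffine (sch 𝒴 η)›
  haveI : Flat (𝒴.p.map c).left := ‹Flat (bmap 𝒴 c)›
  have hfull := (isEqv_resFun hX hY ρ c).full
  let G' : StMod.QCoh (fibCat ρ η₀) := (StMod.comapQ (fibFst ρ η₀)).obj G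
  let ux := up (π := baseFun ρ η₀) (g := 𝒴.p.map c) hfib C.x
  let uw := up (π := baseFun ρ η₀) (g := 𝒴.p.map c) hfib C.w
  let i₁ : Q.pt.left ⟶ ux.obj.left.left := Q.iso.hom.hom.left.left
  let i₂ : ux.obj.left.left ⟶ Q.pt.left := Q.iso.inv.hom.left.left
  have hi : i₁ ≫ i₂ = 𝟙 _ :=
    congrArg (fun k : (resFun ρ c).obj Q.pt ⟶ (resFun ρ c).obj Q.pt => k.hom.left.left) Q.iso.hom_inv_id
  let v' : Γ(G.obj.obj ux.obj.left.left, ⊤) := G.obj.mapTop i₂ (t.1 Q.pt.left Q.pt.hom)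
  obtain ⟨xw, j, -⟩ := (isEqv_resFun hX hY ρ c).obj uw
  have hj : ∀ (f : C.w ⟶ C.x),
      G.obj.mapTop j.hom.hom.left.left (G.obj.mapTop (upMap (π := baseFun ρ η₀) (g := 𝒴.p.map c) hfib f).hom.left.left v') =
        t.1 xw.left xw.hom := fun f => by
    obtain ⟨k, hk⟩ := (resFun ρ c).toFunctor.map_surjective
      (j.hom ≫ upMap (π := baseFun ρ η₀) (g := 𝒴.p.map c) hfib f ≫ Q.iso.inv)
    have hk' : k.left = j.hom.hom.left.left ≫
        (upMap (π := baseFun ρ η₀) (g := 𝒴.p.map c) hfib f).hom.left.left ≫ i₂ :=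
      congrArg (fun k : (resFun ρ c).obj xw ⟶ (resFun ρ c).obj Q.pt => k.hom.left.left) hk
    rw [← Category.assoc] at hk'
    rw [← StMod.Mod.mapTop_comp, ← StMod.Mod.mapTop_comp, ← hk']
    exact relSect_mapTop t k
  have hinj : Function.Injective (G.obj.mapTop j.hom.hom.left.left) := fun a b h => by
    have e : j.inv.hom.left.left ≫ j.hom.hom.left.left = 𝟙 _ :=
      congrArg (fun k : uw ⟶ uw => k.hom.left.left) j.inv_hom_id
    have := congrArg (G.obj.mapTop j.inv.hom.left.left) h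
    rwa [← StMod.Mod.mapTop_comp, ← StMod.Mod.mapTop_comp, e, StMod.Mod.mapTop_id, StMod.Mod.mapTop_id] at this
  have key : P (G.obj.mapTop i₁ v') := by
    refine mem_span_sol (π := baseFun ρ η₀) (g := 𝒴.p.map c) hfib C G' (n := 1) (m := 0) Fin.elim0 (fun _ _ => 1)
      (fun _ => v') (fun k => Fin.elim0 k) (fun k => ?_) (fun v => P (G.obj.mapTop i₁ (v 0))) ?_ ?_ ?_ ?_
    · rw [Fin.sum_univ_one, map_one, one_smul]
      refine (mapTop_fib _ _).trans (Eq.trans ?_ (mapTop_fib _ _).symm)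
      exact hinj ((hj C.p).trans (hj C.q).symm)
    · show P (G.obj.mapTop i₁ 0)
      rw [StMod.Mod.mapTop_zero]
      exact hP0
    · intro a b ha hb
      show P (G.obj.mapTop i₁ (a 0 + b 0))
      rw [StMod.Mod.mapTop_add]
      exact hPadd _ _ ha hb
    · intro b a ha
      show P (G.obj.mapTop i₁ (ux.obj.hom.left.appTop.hom b • a 0))
      rw [StMod.Mod.mapTop_smul]
      have e : bmap 𝒳 i₁ ≫ ux.obj.hom.left = (baseOver ρ Q.pt.left Q.pt.hom).left :=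
        congrArg (fun k : 𝒳.p.obj Q.pt.left ⟶ 𝒴.p.obj η => k.left) (CostructuredArrow.w Q.iso.hom.hom)
      have e' : (bmap 𝒳 i₁).appTop (ux.obj.hom.left.appTop.hom b) = (baseOver ρ Q.pt.left Q.pt.hom).left.appTop b :=
        (appTop_comp_apply' _ _ b).trans (by rw [e]; rfl)
      exact e' ▸ hPsmul b _ ha
    · intro v _ hv
      have hv' := hv 0
      rw [Fin.sum_univ_one, one_smul] at hv'
      replace hv' := (mapTop_fib (F := G.obj) C.p (v 0)).symm.trans (hv'.trans (mapTop_fib (F := G.obj) C.q (v 0)))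
      show P (G.obj.mapTop i₁ (G'.obj.mapTop _ (v 0)))
      refine (congrArg P ?_).mpr (hPgen (v 0) hv')
      refine (congrArg (G.obj.mapTop i₁) (mapTop_fib (F := G.obj) _ (v 0))).trans ?_
      exact (StMod.Mod.mapTop_comp G.obj i₁ _ (v 0)).symm
  have e : G.obj.mapTop i₁ v' = t.1 Q.pt.left Q.pt.hom := by
    show G.obj.mapTop i₁ (G.obj.mapTop i₂ _) = _
    rw [← StMod.Mod.mapTop_comp, hi, StMod.Mod.mapTop_id]
  exact e ▸ key
where
  appTop_comp_apply' {X Y Z : Scheme.{u}} (f : X ⟶ Y) (g : Y ⟶ Z) (a : Γ(Z, ⊤)) :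
      f.appTop (g.appTop.hom a) = (f ≫ g).appTop.hom a := by
    rw [Scheme.Hom.comp_appTop]
    rfl

theorem ResPt.proj_base :
    bmap 𝒳 Q.proj.left ≫ (baseOver ρ C.x.left C.x.hom).left =
      (baseOver ρ Q.pt.left Q.pt.hom).left ≫ bmap 𝒴 c := by
  refine (StMod.bmap_comp_baseOver_left ρ Q.proj.left C.x.hom).trans ?_
  rw [CostructuredArrow.w Q.proj]
  exact congrArg (fun k : 𝒳.p.obj Q.pt.left ⟶ 𝒴.p.obj η₀ => k.left) (StMod.baseOver_comp ρ Q.pt.left Q.pt.hom c)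

/-- Surjections of quasi-coherent modules stay surjective on sections over flat affine objects of the base. -/
theorem relSectMap_surjective (hY : IsFibGrpd 𝒴.p) {F G : StMod.QCoh 𝒳} (u : F ⟶ G) (C : Chart (fibCat ρ η₀))
    (c : η ⟶ η₀) [Flat (bmap 𝒴 c)] (hX : IsFibGrpd 𝒳.p)
    (hlift : ∀ z, G.obj.mapTop C.p.left z = G.obj.mapTop C.q.left z →
      ∃ v, F.obj.mapTop C.p.left v = F.obj.mapTop C.q.left v ∧ (u.hom.app C.x.left).app ⊤ v = z) :
    Function.Surjective (StMod.Mod.relSectMap ρ u.hom η) := by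
  intro t
  obtain ⟨Q⟩ := exists_resPt (hX := hX) (C := C) (c := c) hY
  obtain ⟨s, hs⟩ := Q.value_mem hY G t
    (fun z => ∃ s : F.obj.RelSect ρ η, (StMod.Mod.relSectMap ρ u.hom η s).1 Q.pt.left Q.pt.hom = z)
    ⟨0, by rw [map_zero]; rfl⟩
    (fun a b ⟨s, hs⟩ ⟨s', hs'⟩ => ⟨s + s', by rw [map_add, ← hs, ← hs']; rfl⟩)
    (fun b a ⟨s, hs⟩ => ⟨b • s, by rw [map_smul, ← hs]; rfl⟩)
    (fun z hz => by
      obtain ⟨v, hv, huv⟩ := hlift z hz
      obtain ⟨σ, hσ⟩ := exists_relSect_of_inv hX F C v hv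
      let res : F.obj.RelSect ρ η := ⟨fun ξ α => σ.1 ξ (α ≫ c), fun ξ' ξ φ α =>
        (σ.2 φ _).trans (congrArg (σ.1 ξ') (Category.assoc _ _ _).symm)⟩
      refine ⟨res, ?_⟩
      show (u.hom.app Q.pt.left).app ⊤ (σ.1 Q.pt.left (Q.pt.hom ≫ c)) = _
      refine (congrArg ((u.hom.app Q.pt.left).app ⊤) ((relSect_mapTop σ Q.proj).symm.trans
        (congrArg (F.obj.mapTop Q.proj.left) hσ))).trans ?_
      exact (StMod.Mod.mapTop_app u.hom Q.proj.left v).symm.trans (congrArg _ huv))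
  exact ⟨s, Q.relSect_ext hY G hs⟩

/-- The unit is surjective over flat affine objects of the base if invariant functions come from the base. -/
theorem unitSect_surjective (hY : IsFibGrpd 𝒴.p) (C : Chart (fibCat ρ η₀)) (c : η ⟶ η₀) [Flat (bmap 𝒴 c)]
    (hX : IsFibGrpd 𝒳.p)
    (hinv : ∀ z : Γ(sch 𝒳 C.x.left, ⊤), (bmap 𝒳 C.p.left).appTop z = (bmap 𝒳 C.q.left).appTop z →
      ∃ a, (baseOver ρ C.x.left C.x.hom).left.appTop a = z) :
    Function.Surjective (StMod.unitSect ρ η) := by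
  intro t
  obtain ⟨Q⟩ := exists_resPt (hX := hX) (C := C) (c := c) hY
  obtain ⟨r, hr⟩ := Q.value_mem hY (StMod.OQ 𝒳) t
    (fun z => ∃ r, (StMod.unitSect ρ η r).1 Q.pt.left Q.pt.hom = z)
    ⟨0, by rw [map_zero]; rfl⟩
    (fun a b ⟨s, hs⟩ ⟨s', hs'⟩ => ⟨s + s', by rw [map_add, ← hs, ← hs']; rfl⟩)
    (fun b a ⟨s, hs⟩ => ⟨b • s, by rw [map_smul, ← hs]; rfl⟩)
    (fun z hz => by
      obtain ⟨a, ha⟩ := hinv z ((StMod.O_mapTop 𝒳 C.p.left z).symm.trans (hz.trans (StMod.O_mapTop 𝒳 C.q.left z)))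
      refine ⟨(bmap 𝒴 c).appTop a, Eq.trans ?_ (StMod.O_mapTop 𝒳 Q.proj.left z).symm⟩
      show (baseOver ρ Q.pt.left Q.pt.hom).left.appTop ((bmap 𝒴 c).appTop a) = (bmap 𝒳 Q.proj.left).appTop z
      rw [← ha]
      refine (ResPt.value_mem.appTop_comp_apply' _ _ a).trans (Eq.trans ?_
        (ResPt.value_mem.appTop_comp_apply' _ _ a).symm)
      rw [Q.proj_base])
  exact ⟨r, Q.relSect_ext hY (StMod.OQ 𝒳) hr⟩

set_option maxHeartbeats 800000 in
/-- The unit is injective over flat affine objects of the base if it is so at the chart. -/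
theorem unitSect_injective (hY : IsFibGrpd 𝒴.p) (C : Chart (fibCat ρ η₀)) (c : η ⟶ η₀) [Flat (bmap 𝒴 c)]
    (hX : IsFibGrpd 𝒳.p) (hinj : Function.Injective (baseOver ρ C.x.left C.x.hom).left.appTop.hom) :
    Function.Injective (StMod.unitSect ρ η) := by
  obtain ⟨Q⟩ := exists_resPt (hX := hX) (C := C) (c := c) hY
  intro r r' hr
  have hr₀ := congrArg (fun s : (StMod.O 𝒳).RelSect ρ η => s.1 Q.pt.left Q.pt.hom) hr
  change (baseOver ρ Q.pt.left Q.pt.hom).left.appTop r = (baseOver ρ Q.pt.left Q.pt.hom).left.appTop r' at hr₀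
  have hfib := isFibGrpd_fibCat hX ρ η₀
  haveI : IsAffine (𝒴.p.obj η₀).left := ‹IsAffine (sch 𝒴 η₀)›
  haveI : IsAffine (𝒴.p.obj η).left := ‹IsAffine (sch 𝒴 η)›
  haveI : Flat (𝒴.p.map c).left := ‹Flat (bmap 𝒴 c)›
  let A := Γ((𝒴.p.obj η₀).left, ⊤)
  let B := Γ((𝒴.p.obj η).left, ⊤)
  let ux := up (π := baseFun ρ η₀) (g := 𝒴.p.map c) hfib C.x
  haveI : IsAffine (sch (fibCat ρ η₀) ux.obj.left) := isAffine_up (π := baseFun ρ η₀) (g := 𝒴.p.map c) hfib C.x
  have e : bmap 𝒳 Q.iso.hom.hom.left.left ≫ ux.obj.hom.left = (baseOver ρ Q.pt.left Q.pt.hom).left :=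
    congrArg (fun k : 𝒳.p.obj Q.pt.left ⟶ 𝒴.p.obj η => k.left) (CostructuredArrow.w Q.iso.hom.hom)
  haveI : IsIso (bmap (cat (baseFun ρ η₀) (𝒴.p.map c)) Q.iso.hom) := inferInstance
  haveI : IsIso (bmap 𝒳 Q.iso.hom.hom.left.left) :=
    inferInstanceAs (IsIso (bmap (cat (baseFun ρ η₀) (𝒴.p.map c)) Q.iso.hom))
  rw [← e, Scheme.Hom.comp_appTop] at hr₀
  have hr₁ : ux.obj.hom.left.appTop.hom r = ux.obj.hom.left.appTop.hom r' :=
    (ConcreteCategory.bijective_of_isIso (bmap 𝒳 Q.iso.hom.hom.left.left).appTop).injective hr₀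
  letI : Algebra A B := (𝒴.p.map c).left.appTop.hom.toAlgebra
  haveI : Module.Flat A B := flat_appTop (𝒴.p.map c).left
  let O' := StMod.OQ (fibCat ρ η₀)
  let mA : Module A Γ(O'.obj.obj C.x, ⊤) := Module.compHom _ (str (baseFun ρ η₀) C.x).left.appTop.hom
  let mB : Module B Γ(O'.obj.obj ux.obj.left, ⊤) := Module.compHom _ ux.obj.hom.left.appTop.hom
  let ε := eps (π := baseFun ρ η₀) (g := 𝒴.p.map c) hfib C.x
  have hbc : @IsBC A B _ _ _ _ _ mA _ mB (algebraMap A B) (mapHom O'.obj ε) :=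
    isBC_of_isPushout (Lib.ZeroCyc99.FlatLocalAffine.isPushout_appTop
      (isPullback_eps (π := baseFun ρ η₀) (g := 𝒴.p.map c) hfib C.x)).flip
      (mA := mA) (mB := mB) (fun _ _ => rfl) (fun _ _ => rfl) (isBC_mapHom O' ε)
  obtain ⟨hs, hb⟩ := (isBC_iff rfl).1 hbc
  let l : A →ₗ[A] Γ(O'.obj.obj C.x, ⊤) := LinearMap.toSpanSingleton A _ (oneO _ C.x)
  have hl : Function.Injective l := fun a a' h => hinj (by
    have h' : (str (baseFun ρ η₀) C.x).left.appTop.hom a = (str (baseFun ρ η₀) C.x).left.appTop.hom a' :=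
      (mul_one (M := Γ(sch (fibCat ρ η₀) C.x, ⊤)) _).symm.trans (h.trans (mul_one (M := Γ(sch (fibCat ρ η₀) C.x, ⊤)) _))
    rwa [str_baseFun] at h')
  have hT := Module.Flat.lTensor_preserves_injective_linearMap (M := B) l hl
  have hval : ∀ b : B, bcMap A B (mapHom O'.obj ε) hs (l.lTensor B (b ⊗ₜ[A] (1 : A))) = ux.obj.hom.left.appTop.hom b := fun b => by
    rw [LinearMap.lTensor_tmul, bcMap_tmul]
    have h1 : l 1 = oneO _ C.x := one_smul A (oneO _ C.x)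
    rw [h1]
    refine (congrArg (ux.obj.hom.left.appTop.hom b • ·) (oneO_mapTop ε)).trans ?_
    exact mul_one (M := Γ(sch (fibCat ρ η₀) ux.obj.left, ⊤)) _
  have h2 : (show B from r) ⊗ₜ[A] (1 : A) = (show B from r') ⊗ₜ[A] (1 : A) := hT (hb.injective ((hval r).trans (hr₁.trans (hval r').symm)))
  simpa using congrArg (TensorProduct.rid A B) h2

end Groth.Agent.H14.QuotGood
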