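import Groth.Prelude.Def_CoactBr
import Groth.Prelude.Def_Hoch
import Groth.Prelude.Def_W4c1tameactTame

/-!
Functions on the action groupoid of an affine group acting on an affine scheme, and the retraction of a total integral.
-/

set_option autoImplicit false
set_option backward.isDefEq.respectTransparency false
set_option backward.isDefEq.respectTransparency.types false
set_option linter.style.haveILetI false

universe u

open CategoryTheory MonoidalCategory CartesianMonoidalCategory MonObj AlgebraicGeometry Opposite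
open scoped TensorProduct
open Algebra.TensorProduct (includeLeft includeRight)
open CoactBr

namespace Groth.Agent.H14.QuotGood

variable {R : Type u} [CommRing R]

section Gamma

variable {B K : Type u} [CommRing B] [Algebra R B] [CommRing K] [Algebra R K]

variable (R B) in
/-- Global functions on a spectrum. -/
noncomputable def gam : Γ((sp R B).left, ⊤) ≃+* B := (Scheme.ΓSpecIso (CommRingCat.of B)).commRingCatIsoToRingEquiv

theorem gam_pt (φ : B →ₐ[R] K) (a : Γ((sp R B).left, ⊤)) : gam R K ((pt φ).left.appTop.hom a) = φ (gam R B a) :=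
  ConcreteCategory.congr_hom (Scheme.ΓSpecIso_naturality (CommRingCat.ofHom φ.toRingHom)) a

end Gamma

variable (R) (A B : Type u) [CommRing A] [Algebra R A] [CommRing B] [Algebra R B]

/-- A product of two affine schemes from the spectrum of the tensor product. -/
noncomputable def pr : sp R (A ⊗[R] B) ⟶ sp R A ⊗ sp R B := lift (pt includeLeft) (pt includeRight)

instance : IsIso (pr R A B) := by
  letI : (algSpec (CommRingCat.of R)).Braided := braidedAlgSpec
  have h : pr R A B ≫ Functor.LaxMonoidal.μ (algSpec (CommRingCat.of R)) (op (.of R A)) (op (.of R B)) = 𝟙 _ := by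
    rw [pr, lift_pt_pt, ← pt_id]
    congr 1
    exact Algebra.TensorProduct.ext' fun a b => by simp
  exact IsIso.of_isIso_fac_right h

/-- The triple product. -/
noncomputable def pr3 : sp R (A ⊗[R] (A ⊗[R] B)) ⟶ sp R A ⊗ (sp R A ⊗ sp R B) :=
  pr R A (A ⊗[R] B) ≫ (sp R A ◁ pr R A B)

instance : IsIso (pr3 R A B) := by
  unfold pr3
  infer_instance

instance : IsIso (pr R A B).left := inferInstanceAs (IsIso ((Over.forget _).map (pr R A B)))
instance : IsIso (pr3 R A B).left := inferInstanceAs (IsIso ((Over.forget _).map (pr3 R A B)))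

/-- Functions on the product. -/
noncomputable def gam2 : Γ((sp R A ⊗ sp R B).left, ⊤) ≃+* A ⊗[R] B :=
  (asIso (pr R A B).left.appTop).commRingCatIsoToRingEquiv.trans (gam R (A ⊗[R] B))

/-- Functions on the triple product. -/
noncomputable def gam3 : Γ((sp R A ⊗ (sp R A ⊗ sp R B)).left, ⊤) ≃+* A ⊗[R] (A ⊗[R] B) :=
  (asIso (pr3 R A B).left.appTop).commRingCatIsoToRingEquiv.trans (gam R (A ⊗[R] (A ⊗[R] B)))

variable {R A B}

theorem gam2_comp {m : sp R A ⊗ sp R B ⟶ sp R B} {φ : B →ₐ[R] A ⊗[R] B} (h : pr R A B ≫ m = pt φ)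
    (a : Γ((sp R B).left, ⊤)) : gam2 R A B (m.left.appTop.hom a) = φ (gam R B a) := by
  rw [← gam_pt, ← h, Over.comp_left, Scheme.Hom.comp_appTop]
  rfl

theorem gam3_comp {m : sp R A ⊗ (sp R A ⊗ sp R B) ⟶ sp R A ⊗ sp R B}
    {φ : A ⊗[R] B →ₐ[R] A ⊗[R] (A ⊗[R] B)} (h : pr3 R A B ≫ m = pt φ ≫ pr R A B)
    (a : Γ((sp R A ⊗ sp R B).left, ⊤)) : gam3 R A B (m.left.appTop.hom a) = φ (gam2 R A B a) := by
  have e := congrArg (fun k : sp R (A ⊗[R] (A ⊗[R] B)) ⟶ sp R A ⊗ sp R B => k.left.appTop.hom a) h
  simp only [Over.comp_left, Scheme.Hom.comp_appTop] at e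
  exact (congrArg (gam R _) e).trans (gam_pt φ _)

theorem pr_snd : pr R A B ≫ snd (sp R A) (sp R B) = pt includeRight := lift_snd _ _

theorem pr3_eq : pr3 R A B = lift (pt includeLeft) (pt includeRight ≫ pr R A B) := by
  rw [pr3, pr, lift_whiskerLeft]

theorem pr3_snd : pr3 R A B ≫ snd (sp R A) (sp R A ⊗ sp R B) = pt includeRight ≫ pr R A B := by
  rw [pr3_eq, lift_snd]

theorem pr3_whiskerLeft_snd :
    pr3 R A B ≫ (sp R A ◁ snd (sp R A) (sp R B)) =
      pt (Algebra.TensorProduct.map (AlgHom.id R A) includeRight) ≫ pr R A B := by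
  have e1 : (Algebra.TensorProduct.map (AlgHom.id R A) (includeRight : B →ₐ[R] A ⊗[R] B)).comp includeLeft =
      includeLeft := AlgHom.ext fun a => by simp
  have e2 : (Algebra.TensorProduct.map (AlgHom.id R A) (includeRight : B →ₐ[R] A ⊗[R] B)).comp includeRight =
      includeRight.comp includeRight := AlgHom.ext fun a => by simp
  rw [pr3_eq, lift_whiskerLeft, Category.assoc, pr_snd, pr, comp_lift, ← pt_comp, ← pt_comp, ← pt_comp, e1, e2]

section Hopf

variable {R A B : Type u} [CommRing R] [CommRing A] [CommRing B] [HopfAlgebra R A] [Algebra R B]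
  [HopfRep.Comod R A B] [GLin.IsCoactAlg R A B]

variable (R A B) in
/-- The action on functions. -/
noncomputable def actHom : B →ₐ[R] A ⊗[R] B :=
  (Algebra.TensorProduct.lift includeRight (includeLeft.comp (HopfAlgebra.antipodeAlgHom R A)) fun _ _ => .all _ _).comp
    (GLin.coactAlgHom R A B)

theorem pr_act : pr R A B ≫ (action R A B).act = pt (actHom R A B) := lift_pt_action_act _ _

variable (R A B) in
/-- The composite `(g, h, x) ↦ g h⁻¹` on functions. -/
noncomputable def divHom : A →ₐ[R] A ⊗[R] (A ⊗[R] B) :=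
  (Algebra.TensorProduct.lift includeLeft ((includeRight.comp includeLeft).comp (HopfAlgebra.antipodeAlgHom R A))
    fun _ _ => .all _ _).comp (Bialgebra.comulAlgHom R A)

variable (R A B) in
/-- The composite `(g, h, x) ↦ (g h⁻¹, h x)` on functions. -/
noncomputable def dHom : A ⊗[R] B →ₐ[R] A ⊗[R] (A ⊗[R] B) :=
  Algebra.TensorProduct.lift (divHom R A B) (includeRight.comp (actHom R A B)) fun _ _ => .all _ _

theorem pr3_d :
    pr3 R A B ≫ lift (fst (sp R A) (sp R A ⊗ sp R B) *
        (snd (sp R A) (sp R A ⊗ sp R B) ≫ fst (sp R A) (sp R B))⁻¹)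
      (snd (sp R A) (sp R A ⊗ sp R B) ≫ (action R A B).act) = pt (dHom R A B) ≫ pr R A B := by
  have e1 : (dHom R A B).comp includeLeft = divHom R A B := Algebra.TensorProduct.lift_comp_includeLeft _ _ _
  have e2 : (dHom R A B).comp includeRight = includeRight.comp (actHom R A B) :=
    Algebra.TensorProduct.lift_comp_includeRight' _ _ _
  rw [comp_lift, MonObj.comp_mul, GrpObj.comp_inv, ← Category.assoc, ← Category.assoc, pr3_snd, Category.assoc,
    Category.assoc, pr_act]
  conv_rhs => rw [pr, comp_lift, ← pt_comp, ← pt_comp, e1, e2, pt_comp]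
  rw [pr3_eq, lift_fst, pr, lift_fst, ← pt_comp, pt_inv, pt_mul_pt]
  rfl

variable (α : A →ₗ[R] B)

/-- The retraction `a ⊗ b ↦ α(a) b`. -/
noncomputable def retr : A ⊗[R] B →ₗ[R] B := TensorProduct.lift ((LinearMap.mul R B).comp α)

/-- Its base change. -/
noncomputable def retr3 : A ⊗[R] (A ⊗[R] B) →ₗ[R] A ⊗[R] B :=
  TensorProduct.lift ((LinearMap.mul R (A ⊗[R] B)).comp
    ((includeRight : B →ₐ[R] A ⊗[R] B).toLinearMap.comp α))

omit [HopfRep.Comod R A B] [GLin.IsCoactAlg R A B] in
theorem retr_mul (b : B) (c : A ⊗[R] B) : retr α ((includeRight : B →ₐ[R] A ⊗[R] B) b * c) = b * retr α c := by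
  induction c with
  | zero => simp
  | add x y hx hy => rw [mul_add, map_add, map_add, mul_add, hx, hy]
  | tmul a b' => simp [retr]; ring

omit [HopfRep.Comod R A B] [GLin.IsCoactAlg R A B] in
theorem retr3_mul (c : A ⊗[R] B) (z : A ⊗[R] (A ⊗[R] B)) :
    retr3 α ((includeRight : A ⊗[R] B →ₐ[R] A ⊗[R] (A ⊗[R] B)) c * z) = c * retr3 α z := by
  induction z with
  | zero => simp
  | add x y hx hy => rw [mul_add, map_add, map_add, mul_add, hx, hy]
  | tmul a c' => simp [retr3]; ring

omit [HopfRep.Comod R A B] [GLin.IsCoactAlg R A B] in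
theorem retr3_map (c : A ⊗[R] B) :
    retr3 α (Algebra.TensorProduct.map (AlgHom.id R A) (includeRight : B →ₐ[R] A ⊗[R] B) c) =
      (includeRight : B →ₐ[R] A ⊗[R] B) (retr α c) := by
  induction c with
  | zero => simp
  | add x y hx hy => rw [map_add, map_add, map_add, map_add, hx, hy]
  | tmul a b => simp [retr3, retr]

theorem retr3_d (hα : Hoch.IsComodHom A α) (c : A ⊗[R] B) :
    retr3 α (dHom R A B c) = actHom R A B (retr α c) := by
  induction c with
  | zero => simp
  | add x y hx hy => rw [map_add, map_add, map_add, map_add, hx, hy]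
  | tmul a b =>
    have e : dHom R A B (a ⊗ₜ b) =
        (includeRight : A ⊗[R] B →ₐ[R] A ⊗[R] (A ⊗[R] B)) (actHom R A B b) * divHom R A B a := by
      rw [dHom, Algebra.TensorProduct.lift_tmul, mul_comm]
      rfl
    rw [e, retr3_mul]
    show _ = actHom R A B (α a * b)
    rw [map_mul, mul_comm (actHom R A B (α a))]
    congr 1
    have h : HopfRep.Comod.coact (k := R) (A := A) (α a) = α.rTensor A (CoalgebraStruct.comul a) :=
      LinearMap.congr_fun hα a
    show retr3 α ((Algebra.TensorProduct.lift _ _ fun _ _ => .all _ _) (CoalgebraStruct.comul a)) =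
      (Algebra.TensorProduct.lift _ _ fun _ _ => .all _ _) (HopfRep.Comod.coact (k := R) (A := A) (α a))
    rw [h]
    generalize CoalgebraStruct.comul (R := R) (A := A) a = t
    induction t with
    | zero => simp
    | add x y hx hy => simp only [map_add, hx, hy]
    | tmul a₁ a₂ => simp [retr3]

end Hopf

end Groth.Agent.H14.QuotGood
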