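import Groth.Agent.H14.QuotGood.Avg
import Groth.Agent.H14.QuotGood.Chart
import Groth.Agent.H14.QuotGood.Ring

/-!
Invariant lifting for a tame action of an affine group on an affine scheme.
-/

set_option autoImplicit false
set_option maxHeartbeats 1000000
set_option backward.isDefEq.respectTransparency false
set_option backward.isDefEq.respectTransparency.types false
set_option linter.style.haveILetI false

universe u

open CategoryTheory MonoidalCategory CartesianMonoidalCategory MonObj AlgebraicGeometry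
open scoped TensorProduct
open StMod (sch bmap)
open AlgSt (QuotObj QuotSt)
open CoactBr
open Groth.Agent.Lib.QuotSt

namespace Groth.Agent.H14.QuotGood

variable {R A B : Type u} [CommRing R] [CommRing A] [CommRing B] [HopfAlgebra R A] [Module.Flat R A]
  [Algebra R B] [HopfRep.Comod R A B] [GLin.IsCoactAlg R A B]

/-- Invariant sections at the chart lift along surjections, for a tame action. -/
theorem exists_lift_x₀ (htame : ∃ α : A →ₗ[R] B, Hoch.IsComodHom A α ∧ α 1 = 1)
    {F G : StMod.QCoh (QuotSt Scheme.fppfPrecoverage (sp R A) (action R A B))} (u : F ⟶ G)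
    (hu : StMod.Mod.IsSurj u.hom) (z : Γ(G.obj.obj (x₀ Scheme.fppfPrecoverage (action R A B)), ⊤))
    (hz : G.obj.mapTop (pW Scheme.fppfPrecoverage (action R A B)) z =
      G.obj.mapTop (qW Scheme.fppfPrecoverage (action R A B)) z) :
    ∃ v : Γ(F.obj.obj (x₀ Scheme.fppfPrecoverage (action R A B)), ⊤),
      F.obj.mapTop (pW Scheme.fppfPrecoverage (action R A B)) v =
        F.obj.mapTop (qW Scheme.fppfPrecoverage (action R A B)) v ∧
      (u.hom.app (x₀ Scheme.fppfPrecoverage (action R A B))).app ⊤ v = z := by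
  obtain ⟨α, hα, hα1⟩ := htame
  obtain ⟨⟨bW, PW, actW, πW, cartW, locW, φW, eqvW⟩, e, d₁, d, hb, heb, hd₁b, hdb, h₁, h₂, h₃⟩ :=
    exists_triple (K := Scheme.fppfPrecoverage) (action R A B)
  cases hb
  simp only [eqToHom_refl, Category.id_comp] at heb hd₁b hdb
  let w2 : QuotObj Scheme.fppfPrecoverage (sp R A) (action R A B) := ⟨_, PW, actW, πW, cartW, locW, φW, eqvW⟩
  haveI : IsAffineHom (sp R A).hom := inferInstanceAs (IsAffineHom (Spec.map (CommRingCat.ofHom (algebraMap R A))))
  haveI : IsAffine (sp R B).left := inferInstanceAs (IsAffine (Spec (CommRingCat.of B)))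
  haveI : IsAffine (sch (QuotSt Scheme.fppfPrecoverage (sp R A) (action R A B))
      (x₀ Scheme.fppfPrecoverage (action R A B))) := inferInstanceAs (IsAffine (sp R B).left)
  haveI : IsAffine (sch (QuotSt Scheme.fppfPrecoverage (sp R A) (action R A B))
      (w₀ Scheme.fppfPrecoverage (action R A B))) := inferInstanceAs (IsAffine (sp R A ⊗ sp R B).left)
  haveI : IsAffine (sp R (A ⊗[R] (A ⊗[R] B))).left :=
    inferInstanceAs (IsAffine (Spec (CommRingCat.of (A ⊗[R] (A ⊗[R] B)))))
  haveI : IsAffine (sch (QuotSt Scheme.fppfPrecoverage (sp R A) (action R A B)) w2) :=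
    IsAffine.of_isIso (inv (pr3 R A B).left)
  have hp : (bmap (QuotSt Scheme.fppfPrecoverage (sp R A) (action R A B))
      (pW Scheme.fppfPrecoverage (action R A B))) = (snd (sp R A) (sp R B)).left := rfl
  have hq : (bmap (QuotSt Scheme.fppfPrecoverage (sp R A) (action R A B))
      (qW Scheme.fppfPrecoverage (action R A B))) = (action R A B).act.left := rfl
  let ε : Γ((sp R A ⊗ sp R B).left, ⊤) →+ Γ((sp R B).left, ⊤) :=
    ((gam R B).symm.toAddEquiv.toAddMonoidHom.comp (retr α).toAddMonoidHom).comp (gam2 R A B).toAddEquiv.toAddMonoidHom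
  let εw : Γ((sp R A ⊗ (sp R A ⊗ sp R B)).left, ⊤) →+ Γ((sp R A ⊗ sp R B).left, ⊤) :=
    ((gam2 R A B).symm.toAddEquiv.toAddMonoidHom.comp (retr3 α).toAddMonoidHom).comp
      (gam3 R A B).toAddEquiv.toAddMonoidHom
  have hεa : ∀ c, gam R B (ε c) = retr α (gam2 R A B c) := fun c => (gam R B).apply_symm_apply _
  have hεwa : ∀ c, gam2 R A B (εw c) = retr3 α (gam3 R A B c) := fun c => (gam2 R A B).apply_symm_apply _
  refine exists_invariant_lift (𝒳 := QuotSt Scheme.fppfPrecoverage (sp R A) (action R A B)) (x := x₀ Scheme.fppfPrecoverage (action R A B))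
    (w := w₀ Scheme.fppfPrecoverage (action R A B)) (w2 := w2)
    (pW Scheme.fppfPrecoverage (action R A B)) (qW Scheme.fppfPrecoverage (action R A B)) e d₁ d h₁ h₂ h₃
    ε εw ?_ ?_ ?_ ?_ ?_ u hu z hz
  · intro (a : Γ((sp R B).left, ⊤)) (b : Γ((sp R A ⊗ sp R B).left, ⊤))
    apply (gam R B).injective
    rw [hp]
    show gam R B (ε ((snd (sp R A) (sp R B)).left.appTop.hom a * b)) = gam R B (a * ε b)
    rw [hεa, map_mul, gam2_comp (m := snd (sp R A) (sp R B)) pr_snd, retr_mul, map_mul, hεa]
  · apply (gam R B).injective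
    show gam R B (ε 1) = gam R B 1
    rw [hεa, map_one (gam2 R A B), map_one (gam R B), Algebra.TensorProduct.one_def]
    simp [retr, hα1]
  · intro (a : Γ((sp R A ⊗ sp R B).left, ⊤)) (b : Γ((sp R A ⊗ (sp R A ⊗ sp R B)).left, ⊤))
    apply (gam2 R A B).injective
    show gam2 R A B (εw ((show Γ((sp R A ⊗ (sp R A ⊗ sp R B)).left, ⊤) from e.base.left.appTop.hom a) * b)) =
      gam2 R A B (a * εw b)
    rw [heb, hεwa, map_mul]
    refine (congrArg (fun k => retr3 α (k * gam3 R A B b))
      (gam3_comp (m := snd (sp R A) (sp R A ⊗ sp R B)) pr3_snd a)).trans ?_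
    rw [retr3_mul, map_mul, hεwa]
  · intro (c : Γ((sp R A ⊗ sp R B).left, ⊤))
    apply (gam2 R A B).injective
    show gam2 R A B (εw (d₁.base.left.appTop.hom c)) =
      gam2 R A B ((snd (sp R A) (sp R B)).left.appTop.hom (ε c))
    rw [hd₁b, hεwa]
    refine (congrArg (retr3 α) (gam3_comp (m := sp R A ◁ snd (sp R A) (sp R B)) pr3_whiskerLeft_snd c)).trans ?_
    rw [retr3_map, gam2_comp (m := snd (sp R A) (sp R B)) pr_snd, hεa]
  · intro (c : Γ((sp R A ⊗ sp R B).left, ⊤))
    apply (gam2 R A B).injective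
    show gam2 R A B (εw (d.base.left.appTop.hom c)) = gam2 R A B ((action R A B).act.left.appTop.hom (ε c))
    rw [hdb, hεwa]
    refine (congrArg (retr3 α) (gam3_comp pr3_d c)).trans ?_
    rw [retr3_d α hα, gam2_comp pr_act, hεa]

end Groth.Agent.H14.QuotGood
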