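import Groth.Agent.H14.QuotGood.Base
import Groth.Agent.H14.QuotGood.Lift
import Groth.Agent.H14.CohDesc.UnitLocal
import Groth.Agent.H14.Chart.QC2
import Groth.Agent.Lib.AlgStack.QaDiag
import Groth.Agent.Lib.AlgStack.IsAlg
import Groth.Agent.Lib.AlgSpFpqc.Rep
import Groth.Prelude.Def_StMod2

/-!
The quotient by a tame action of an affine group on an affine scheme has a good moduli space.
-/

set_option autoImplicit false
set_option backward.isDefEq.respectTransparency false
set_option backward.isDefEq.respectTransparency.types false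
set_option linter.style.haveILetI false

universe u

open CategoryTheory MonoidalCategory CartesianMonoidalCategory MonObj AlgebraicGeometry Opposite
open scoped TensorProduct
open StMod (sch bmap fibCat fibFst etaOf baseOver)
open AlgSt (QuotObj QuotSt ofSch ofSpMap quotMap RepByAlgSpWith IsAlgStack toOverCat)
open FibCat (IsFibGrpd overCat toSelf diag)
open AlgSp (yon)
open CoactBr
open Groth.Agent.Lib Groth.Agent.Lib.QuotSt
open Groth.Agent.H14.GenFam

namespace Groth.Agent.H14.QuotGood

section General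

variable {S : Scheme.{u}}

/-- The tautological object of a scheme. -/
noncomputable def topObj (Y : Over S) : (ofSch Y).obj := ⟨Y, ⟨𝟙 Y⟩⟩

/-- The map to it. -/
noncomputable def toTop {Y : Over S} (a : (ofSch Y).obj) : a ⟶ topObj Y :=
  ⟨a.sec.down, congrArg ULift.up (by show a.sec.down ≫ 𝟙 Y = a.sec.down; rw [Category.comp_id])⟩

theorem toTop_uniq {Y : Over S} {a : (ofSch Y).obj} (k : a ⟶ topObj Y) : k = toTop a :=
  Stk.EltObj.hom_ext (by
    have h : k.hom ≫ 𝟙 Y = a.sec.down := congrArg ULift.down k.map_sec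
    exact ((Category.comp_id k.hom).symm.trans h))

/-- A chart is one of the category over the tautological object. -/
noncomputable def fibChart {𝒳 : AlgSt.Cat S} {Y : Over S} (ρ : 𝒳 ⥤ᵇ ofSch Y) (C : Chart 𝒳) :
    Chart (fibCat ρ (topObj Y)) where
  x := CostructuredArrow.mk (toTop (ρ.obj C.x))
  w := CostructuredArrow.mk (toTop (ρ.obj C.w))
  affx := C.affx
  affw := C.affw
  p := CostructuredArrow.homMk C.p (toTop_uniq _)
  q := CostructuredArrow.homMk C.q (toTop_uniq _)
  cover o ho := by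
    obtain ⟨n, D, hD⟩ := C.cover o.left ho
    exact ⟨n, ⟨fun j => CostructuredArrow.mk (toTop (ρ.obj (D.E j))), D.aff,
      fun j => CostructuredArrow.homMk (D.e j) (toTop_uniq _), D.flat, D.surj⟩,
      fun j => ⟨CostructuredArrow.homMk (hD j).some (toTop_uniq _)⟩⟩
  overlap o ho a b := by
    obtain ⟨J, hJ, D, hD⟩ := C.overlap o.left ho a.left b.left
    refine ⟨J, hJ, ⟨fun j => CostructuredArrow.mk (toTop (ρ.obj (D.E j))), D.aff,
      fun j => CostructuredArrow.homMk (D.e j) ((toTop_uniq (a := ρ.obj (D.E j)) (ρ.map (D.e j) ≫ o.hom))), D.flat,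
      D.surj⟩, fun j => ?_⟩
    obtain ⟨c, hc₁, hc₂⟩ := hD j
    exact ⟨CostructuredArrow.homMk c (toTop_uniq _), CostructuredArrow.hom_ext _ _ hc₁,
      CostructuredArrow.hom_ext _ _ hc₂⟩

theorem baseOver_topObj {𝒳 : AlgSt.Cat S} {Y : Over S} (ρ : 𝒳 ⥤ᵇ ofSch Y) (x : 𝒳.obj)
    (α : ρ.obj x ⟶ topObj Y) {f : 𝒳.p.obj x ⟶ Y} (h : ρ.obj x = ⟨𝒳.p.obj x, ⟨f⟩⟩) :
    baseOver ρ x α = f := by
  rw [toTop_uniq α]
  show eqToHom (ρ.w_obj x).symm ≫ (ρ.obj x).sec.down = f
  have key : ∀ (a : (ofSch Y).obj) (T : Over S) (g : T ⟶ Y), a = ⟨T, ⟨g⟩⟩ → ∀ e : a.base = T,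
      eqToHom e.symm ≫ a.sec.down = g := by
    rintro a T g rfl e
    exact Category.id_comp g
  exact key _ _ f h (ρ.w_obj x)

theorem qs_of_repWith {F G : AlgSp.Sp S} (hG : AlgSp.IsAlgSpace G) {f : F ⟶ G}
    (h : AlgSp.RepWith @IsSeparated f) : AlgSp.IsQuasiSeparatedMor f :=
  Lib.AlgSpace.repWith_mono (Lib.AlgSpFpqc.Rep.isSeparatedMor_of_repWith hG h) fun _ _ g (_ : IsClosedImmersion g) =>
    (inferInstance : QuasiCompact g)

theorem repQS_toSelf [IsAffine S] (V : Over S) [IsAffine V.left] :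
    RepByAlgSpWith AlgSp.IsQuasiSeparatedMor (toSelf (overCat V)) := fun T y => by
  obtain rfl : y = toSelf (overCat T) := Lib.AlgStack.Diag.toSelf_unique _ _
  refine ⟨(AlgSp.ofScheme S).obj (Limits.prod T V), BasedFunctor.comp (toOverCat (Limits.prod T V)) (Lib.AlgStack.Diag.prodToFp T V),
    Lib.AlgStack.BasedBasic.IsEquivOver.comp (Lib.AlgStack.Rep.isEquivOver_toOverCat _)
      (Lib.AlgStack.Diag.isEquivOver_prodToFp T V), ?_⟩
  show AlgSp.IsQuasiSeparatedMor
    (AlgSt.spMapOfOver (BasedFunctor.comp (toOverCat (Limits.prod T V)) (Lib.AlgStack.Diag.overMap' Limits.prod.fst)))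
  rw [H14.Sep.Lft.spMapOfOver_overMap']
  have h1 : AlgSt.spMapOfOver (toOverCat (Limits.prod T V)) = 𝟙 _ :=
    Lib.AlgStack.Rep.spMapOfOver_ofSpMap_toOverCat (𝟙 ((yon S).obj (Limits.prod T V)))
  rw [h1, Category.id_comp]
  refine (AlgSp.isQuasiSeparatedMor_yon_map_iff _).2 ?_
  exact MorphismProperty.of_isPullback (P := @QuasiSeparated) (Lib.AlgSpMor.DiagCharts.isPullback_prod_left T V).flip
    (inferInstance : QuasiSeparated V.hom)

theorem isQuasiSeparatedOver_ofSch [IsAffine S] (V : Over S) [IsAffine V.left] :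
    AlgSt.IsQuasiSeparatedOver (ofSch V) := by
  have h1 : AlgSt.IsQuasiSeparatedMor (toSelf (overCat V)) := H14.Sep.Main2.diag_qcqs_of_qs (repQS_toSelf V)
  exact (H14.Sep.Rep.diag_iff_of_isEquivOver (f := toSelf (overCat V)) (f' := toSelf (ofSch V))
    (Lib.AlgStack.Rep.isEquivOver_toOverCat V) Lib.AlgStack.BasedBasic.isEquivOver_id
    (eqToIso ((H14.Chart.QC2.eq_toSelf _).trans (H14.Chart.QC2.eq_toSelf _).symm))).1 h1

end General

variable {R A B : Type u} [CommRing R] [CommRing A] [CommRing B] [HopfAlgebra R A] [Module.Flat R A]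
  [Algebra R B] [HopfRep.Comod R A B] [GLin.IsCoactAlg R A B]

theorem pr_left_fst : pr R B A ≫ fst (sp R B) (sp R A) = pt Algebra.TensorProduct.includeLeft := lift_fst _ _

/-- Functions with equal pullbacks along action and projection are invariant. -/
theorem mem_invariants (b : B) (h : actHom R A B b = (Algebra.TensorProduct.includeRight : B →ₐ[R] A ⊗[R] B) b) :
    b ∈ GLin.invariants R A B := by
  let φ : sp R B ⟶ sp R (Polynomial R) := pt (Polynomial.aeval b)
  have h1 : (action R A B).act ≫ φ = snd (sp R A) (sp R B) ≫ φ := by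
    rw [← cancel_epi (pr R A B), ← Category.assoc, ← Category.assoc, pr_act, pr_snd, ← pt_comp, ← pt_comp]
    congr 1
    apply Polynomial.algHom_ext
    simpa using h
  have h2 := (action_act_comp_eq_iff φ).1 h1
  have e : pr R B A ≫ ract R A B = pt ((Algebra.TensorProduct.lift Algebra.TensorProduct.includeLeft
      Algebra.TensorProduct.includeRight fun _ _ => .all _ _).comp (GLin.coactAlgHom R A B)) := lift_pt_ract _ _
  rw [← cancel_epi (pr R B A), ← Category.assoc, ← Category.assoc, e, pr_left_fst, ← pt_comp, ← pt_comp] at h2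
  have h3 := AlgHom.congr_fun (pt_injective h2) Polynomial.X
  simp only [AlgHom.comp_apply, Polynomial.aeval_X, Algebra.TensorProduct.includeLeft_apply] at h3
  show HopfRep.Comod.coact (k := R) (A := A) b = b ⊗ₜ[R] (1 : A)
  refine Eq.trans ?_ h3
  rw [GLin.coactAlgHom_apply]
  generalize HopfRep.Comod.coact (k := R) (A := A) b = t
  induction t with
  | zero => simp
  | add x y hx hy => rw [map_add, ← hx, ← hy]
  | tmul x y => simp

variable [Algebra.FinitePresentation R A]

set_option maxHeartbeats 1000000 in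
/-- The quotient by a tame action of an affine group on an affine scheme has a good moduli space. -/
theorem isGoodModuli_quotSt (htame : ∃ α : A →ₗ[R] B, Hoch.IsComodHom A α ∧ α 1 = 1)
    (h𝒳 : IsAlgStack Scheme.fppfPrecoverage (QuotSt Scheme.fppfPrecoverage (sp R A) (action R A B)))
    (ρ : QuotSt Scheme.fppfPrecoverage (sp R A) (action R A B) ⥤ᵇ ofSch (sp R ↥(GLin.invariants R A B)))
    (hρ : BasedFunctor.comp (quotMap Scheme.fppfPrecoverage (sp R A) (action R A B)) ρ =
      ofSpMap ((yon (Spec (CommRingCat.of R))).map (pt (GLin.invariants R A B).val))) :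
    StMod.IsGoodModuli ρ ∧ AlgSt.IsQuasiCompactMor Scheme.fppfPrecoverage ρ ∧
      AlgSt.IsQuasiSeparatedMor ρ := by
  let Y := sp R ↥(GLin.invariants R A B)
  haveI : IsAffineHom (sp R A).hom := inferInstanceAs (IsAffineHom (Spec.map (CommRingCat.ofHom (algebraMap R A))))
  haveI : Flat (sp R A).hom := by
    show Flat (Spec.map (CommRingCat.ofHom (algebraMap R A)))
    rw [Flat.SpecMap_iff]
    exact RingHom.flat_algebraMap_iff.2 ‹_›
  haveI : LocallyOfFinitePresentation (sp R A).hom := by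
    show LocallyOfFinitePresentation (Spec.map (CommRingCat.ofHom (algebraMap R A)))
    rw [HasRingHomProperty.Spec_iff (P := @LocallyOfFinitePresentation)]
    exact RingHom.finitePresentation_algebraMap.2 ‹_›
  haveI : IsAffine (sp R B).left := inferInstanceAs (IsAffine (Spec (CommRingCat.of B)))
  haveI : IsAffine Y.left := inferInstanceAs (IsAffine (Spec (CommRingCat.of ↥(GLin.invariants R A B))))
  have hX := h𝒳.isStack.1
  have hM : IsAlgStack Scheme.fppfPrecoverage (ofSch Y) := Lib.AlgStack.IsAlg.isAlgStack_ofSp ((AlgSp.ofScheme _).obj Y)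
  have hY : IsFibGrpd (ofSch Y).p := hM.isStack.1
  have hYqs := isQuasiSeparatedOver_ofSch Y
  have hXaff : IsAffineHom (Limits.pullback.diagonal (sp R B).hom) := inferInstance
  have hdiag : RepByAlgSpWith AlgSp.IsAffineMor
      (diag (toSelf (QuotSt Scheme.fppfPrecoverage (sp R A) (action R A B)))) :=
    Lib.QuotSt.isAffineMor_diag le_rfl ‹_›
      (fun _ z => Lib.QuotSt.isStack_fp_diag z (Lib.QuotSt.isStack le_rfl)) hXaff
  have hXqs : AlgSt.IsQuasiSeparatedOver (QuotSt Scheme.fppfPrecoverage (sp R A) (action R A B)) :=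
    Lib.AlgStack.Rep.repByAlgSpWith_mono hdiag fun F G f _ hG h => by
      have h' := Lib.AlgSpMor.AffineDescent.repWith_of_isAffineMor h
      exact ⟨Lib.AlgSpMor.QC.isQuasiCompactMor_of_repWith (Lib.AlgSpace.repWith_mono h' fun _ _ g (_ : IsAffineHom g) =>
          (inferInstance : QuasiCompact g)),
        qs_of_repWith hG (Lib.AlgSpace.repWith_mono h' fun _ _ g (_ : IsAffineHom g) =>
          (inferInstance : IsSeparated g))⟩
  have hqs : AlgSt.IsQuasiSeparatedMor ρ := by
    refine H14.Sep.Main.diag_of_comp (g := toSelf (ofSch Y)) hX hY H14.Sep.Main2.isFibGrpd_self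
      H14.Sep.Main.good_qcqs.bc H14.Sep.Main.good_qcqs.fs H14.Sep.Main.good_qcqs.comp ?_
      (H14.Sep.Main2.diag_qcqs_of_qs (Lib.AlgStack.Rep.repByAlgSpWith_mono (H14.Sep.Rep.cmp_of_diag ρ ρ hYqs)
        fun _ _ _ _ _ h => h.2))
    rw [H14.Chart.QC2.eq_toSelf (BasedFunctor.comp ρ (toSelf (ofSch Y)))]
    exact hXqs
  have hqc : AlgSt.IsQuasiCompactMor Scheme.fppfPrecoverage ρ :=
    H14.Chart.QC2.isQuasiCompactMor_of_isQuasiCompact h𝒳 hM ρ
      (H14.Chart.QC.isQuasiCompact_of_surjective (H14.Chart.Basic.isAlgStack_overCat (sp R B)) h𝒳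
        (H14.Chart.Points.isSurjective_of_rep hX
          (Lib.QuotSt.repByAlgSpWith_atlas fun y => Lib.QuotSt.isSurjectiveMor_yon_map _
            (Lib.QuotSt.surjective_proj Scheme.fppfPrecoverage_le_fpqcPrecoverage y)))
        (H14.Chart.QC.isQuasiCompact_overCat (sp R B))) hYqs
  refine ⟨?_, hqc, hqs⟩
  let C₀ := quotChart (action R A B) Scheme.fppfPrecoverage_le_fpqcPrecoverage
  let C := fibChart ρ C₀
  have hb : baseOver ρ C.x.left C.x.hom = pt (GLin.invariants R A B).val := by
    refine baseOver_topObj ρ (x₀ Scheme.fppfPrecoverage (action R A B)) _ ?_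
    refine (congrArg (fun k : ofSch (sp R B) ⥤ᵇ ofSch Y => k.obj ⟨sp R B, ⟨𝟙 _⟩⟩) hρ).trans ?_
    show (⟨sp R B, ⟨𝟙 (sp R B) ≫ pt (GLin.invariants R A B).val⟩⟩ : (ofSch Y).obj) = _
    exact congrArg (fun k : sp R B ⟶ Y => (⟨sp R B, ⟨k⟩⟩ : (ofSch Y).obj)) (Category.id_comp _)
  have hinv : ∀ z : Γ(sch (QuotSt Scheme.fppfPrecoverage (sp R A) (action R A B)) C.x.left, ⊤),
      (bmap _ C.p.left).appTop z = (bmap _ C.q.left).appTop z →
        ∃ a, (baseOver ρ C.x.left C.x.hom).left.appTop a = z := by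
    intro (z : Γ((sp R B).left, ⊤)) (hz : (snd (sp R A) (sp R B)).left.appTop.hom z =
      (action R A B).act.left.appTop.hom z)
    have hm := congrArg (gam2 R A B) hz
    rw [gam2_comp pr_snd, gam2_comp pr_act] at hm
    rw [hb]
    refine ⟨(gam R _).symm ⟨gam R B z, mem_invariants _ hm.symm⟩, (gam R B).injective ?_⟩
    refine (gam_pt (GLin.invariants R A B).val _).trans ?_
    rw [RingEquiv.apply_symm_apply]
    rfl
  have hinj : Function.Injective (baseOver ρ C.x.left C.x.hom).left.appTop.hom := by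
    rw [hb]
    intro a a' h
    have h' := congrArg (gam R B) h
    replace h' := (gam_pt (GLin.invariants R A B).val a).symm.trans (h'.trans (gam_pt (GLin.invariants R A B).val a'))
    exact (gam R _).injective (Subtype.ext h')
  have hsetup : ∀ E : AlgSp.EtOver ((yon (Spec (CommRingCat.of R))).obj Y),
      ∃ c : etaOf E ⟶ topObj Y, Etale (bmap (ofSch Y) c) := by
    intro E
    obtain ⟨g, hg⟩ := (yon (Spec (CommRingCat.of R))).map_surjective E.obj.hom
    refine ⟨toTop _, ?_⟩
    have e : (etaOf E).sec.down = g := by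
      show ((AlgSp.J _).uliftYonedaEquiv E.obj.hom).down = g
      rw [← hg]
      exact Category.id_comp g
    show Etale (etaOf E).sec.down.left
    rw [e]
    exact (AlgSp.repWith_yon_map_iff _ _).1 (by rw [hg]; exact E.property)
  refine ⟨fun F G u hu E hE => ?_, fun E => CohDesc.unitBijective_of_affine ρ E hX fun E hE => ?_⟩
  · obtain ⟨c, hc⟩ := hsetup E
    haveI : IsAffine (sch (ofSch Y) (etaOf E)) := hE
    haveI : IsAffine (sch (ofSch Y) (topObj Y)) := ‹IsAffine Y.left›
    haveI : Flat (bmap (ofSch Y) c) := have := hc; inferInstance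
    exact relSectMap_surjective hY u C c hX fun z hz => exists_lift_x₀ htame u hu z hz
  · obtain ⟨c, hc⟩ := hsetup E
    haveI : IsAffine (sch (ofSch Y) (etaOf E)) := hE
    haveI : IsAffine (sch (ofSch Y) (topObj Y)) := ‹IsAffine Y.left›
    haveI : Flat (bmap (ofSch Y) c) := have := hc; inferInstance
    exact ⟨unitSect_injective hY C c hX hinj, unitSect_surjective hY C c hX hinv⟩

end Groth.Agent.H14.QuotGood
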