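import Groth.Agent.H14.GenFam.Chart

/-!
Averaging sections over a groupoid by an invariant retraction on functions.
-/

set_option autoImplicit false
set_option backward.isDefEq.respectTransparency false
set_option backward.isDefEq.respectTransparency.types false
set_option linter.style.haveILetI false

universe u

open CategoryTheory CategoryTheory.Limits AlgebraicGeometry TensorProduct
open StMod (sch bmap)
open Groth.Agent.H14.ModDesc
open Groth.Agent.H14.GenFam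

namespace Groth.Agent.H14.QuotGood

/-- A retraction on scalars gives one on the base change of a module. -/
theorem bc_retract {A B : Type u} [CommRing A] [CommRing B] {M N : Type u} [AddCommGroup M] [Module A M]
    [AddCommGroup N] [Module B N] {φ : A →+* B} {g : M →+ N} (hg : IsBC φ g) (ε : B →+ A)
    (hε : ∀ a b, ε (φ a * b) = a * ε b) : ∃ R : N →+ M, ∀ b m, R (b • g m) = ε b • m := by
  letI : Algebra A B := φ.toAlgebra
  obtain ⟨hs, hb⟩ := (isBC_iff rfl).1 hg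
  let e : B ⊗[A] M ≃+ N := AddEquiv.ofBijective (bcMap A B g hs) hb
  let ε' : B →ₗ[A] A :=
    { toFun := ε
      map_add' := map_add ε
      map_smul' := fun a b => by rw [Algebra.smul_def]; exact hε a b }
  let r : B ⊗[A] M →ₗ[A] M := TensorProduct.lift ((LinearMap.lsmul A M).comp ε')
  refine ⟨r.toAddMonoidHom.comp e.symm.toAddMonoidHom, fun b m => ?_⟩
  show r (e.symm (b • g m)) = ε b • m
  have he : b • g m = e (b ⊗ₜ m) := (bcMap_tmul g hs b m).symm
  rw [he, AddEquiv.symm_apply_apply]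
  rfl

variable {S : Scheme.{u}} {𝒳 : AlgSt.Cat S} {x w w2 : 𝒳.obj} [IsAffine (sch 𝒳 x)] [IsAffine (sch 𝒳 w)]
  [IsAffine (sch 𝒳 w2)]

/-- Invariant sections lift along surjections when functions on the groupoid have an invariant retraction. -/
theorem exists_invariant_lift (p q : w ⟶ x) (e d₁ d : w2 ⟶ w) (h₁ : e ≫ p = d₁ ≫ p) (h₂ : d ≫ p = e ≫ q)
    (h₃ : d ≫ q = d₁ ≫ q) (ε : Γ(sch 𝒳 w, ⊤) →+ Γ(sch 𝒳 x, ⊤))
    (εw : Γ(sch 𝒳 w2, ⊤) →+ Γ(sch 𝒳 w, ⊤))
    (hε : ∀ a b, ε ((bmap 𝒳 p).appTop.hom a * b) = a * ε b) (hε1 : ε 1 = 1)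
    (hεw : ∀ a b, εw ((bmap 𝒳 e).appTop.hom a * b) = a * εw b)
    (hd₁ : ∀ c, εw ((bmap 𝒳 d₁).appTop.hom c) = (bmap 𝒳 p).appTop.hom (ε c))
    (hd : ∀ c, εw ((bmap 𝒳 d).appTop.hom c) = (bmap 𝒳 q).appTop.hom (ε c))
    {F G : StMod.QCoh 𝒳} (u : F ⟶ G) (hu : StMod.Mod.IsSurj u.hom) (z : Γ(G.obj.obj x, ⊤))
    (hz : G.obj.mapTop p z = G.obj.mapTop q z) :
    ∃ v : Γ(F.obj.obj x, ⊤), F.obj.mapTop p v = F.obj.mapTop q v ∧ (u.hom.app x).app ⊤ v = z := by
  obtain ⟨R, hR⟩ := bc_retract (isBC_mapHom F p) ε hε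
  obtain ⟨Rw, hRw⟩ := bc_retract (isBC_mapHom F e) εw hεw
  obtain ⟨RG, hRG⟩ := bc_retract (isBC_mapHom G p) ε hε
  have P₁ : ∀ ξ, Rw (F.obj.mapTop d₁ ξ) = F.obj.mapTop p (R ξ) := fun ξ => by
    refine bc_induction (isBC_mapHom F p) (P := fun ξ => Rw (F.obj.mapTop d₁ ξ) = F.obj.mapTop p (R ξ)) ?_
      (fun a b ha hb => ?_) (fun c m => ?_) ξ
    · simp only [StMod.Mod.mapTop_zero, map_zero]
    · simp only [StMod.Mod.mapTop_add, map_add, ha, hb]
    · show Rw (F.obj.mapTop d₁ (c • F.obj.mapTop p m)) = F.obj.mapTop p (R (c • F.obj.mapTop p m))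
      rw [StMod.Mod.mapTop_smul, ← StMod.Mod.mapTop_comp, ← h₁, StMod.Mod.mapTop_comp]
      refine (hRw _ (F.obj.mapTop p m)).trans ?_
      refine Eq.trans ?_ (congrArg (F.obj.mapTop p) (hR c m)).symm
      rw [StMod.Mod.mapTop_smul]
      exact congrArg (· • F.obj.mapTop p m) (hd₁ c)
  have P₂ : ∀ ξ, Rw (F.obj.mapTop d ξ) = F.obj.mapTop q (R ξ) := fun ξ => by
    refine bc_induction (isBC_mapHom F p) (P := fun ξ => Rw (F.obj.mapTop d ξ) = F.obj.mapTop q (R ξ)) ?_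
      (fun a b ha hb => ?_) (fun c m => ?_) ξ
    · simp only [StMod.Mod.mapTop_zero, map_zero]
    · simp only [StMod.Mod.mapTop_add, map_add, ha, hb]
    · show Rw (F.obj.mapTop d (c • F.obj.mapTop p m)) = F.obj.mapTop q (R (c • F.obj.mapTop p m))
      rw [StMod.Mod.mapTop_smul, ← StMod.Mod.mapTop_comp, h₂, StMod.Mod.mapTop_comp]
      refine (hRw _ (F.obj.mapTop q m)).trans ?_
      refine Eq.trans ?_ (congrArg (F.obj.mapTop q) (hR c m)).symm
      rw [StMod.Mod.mapTop_smul]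
      exact congrArg (· • F.obj.mapTop q m) (hd c)
  have nat : ∀ ξ, (u.hom.app x).app ⊤ (R ξ) = RG ((u.hom.app w).app ⊤ ξ) := fun ξ => by
    refine bc_induction (isBC_mapHom F p)
      (P := fun ξ => (u.hom.app x).app ⊤ (R ξ) = RG ((u.hom.app w).app ⊤ ξ)) ?_
      (fun a b ha hb => ?_) (fun c m => ?_) ξ
    · simp only [map_zero]
    · simp only [map_add, ha, hb]
    · refine (congrArg ((u.hom.app x).app ⊤) (hR c m)).trans ?_
      refine (Scheme.Modules.Hom.app_smul (u.hom.app x) (ε c) m).trans ?_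
      refine ((hRG c ((u.hom.app x).app ⊤ m)).symm.trans ?_)
      refine congrArg RG ?_
      refine Eq.trans ?_ (Scheme.Modules.Hom.app_smul (u.hom.app w) c (F.obj.mapTop p m)).symm
      exact congrArg (c • ·) (StMod.Mod.mapTop_app u.hom p m)
  obtain ⟨v, hv⟩ := hu x inferInstance z
  refine ⟨R (F.obj.mapTop q v), ?_, ?_⟩
  · rw [← P₁, ← P₂, ← StMod.Mod.mapTop_comp, ← StMod.Mod.mapTop_comp, h₃]
  · rw [nat]
    refine (congrArg RG (((StMod.Mod.mapTop_app u.hom q v).symm.trans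
      (congrArg (G.obj.mapTop q) hv)).trans (hz.symm.trans (one_smul Γ(sch 𝒳 w, ⊤) (G.obj.mapTop p z)).symm))).trans ?_
    refine (hRG 1 z).trans ?_
    rw [hε1, one_smul]

end Groth.Agent.H14.QuotGood
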